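import Cfsg.Agent.H320.SD.ChiefOf

/-!
# Codimensions in a group of 3-transpositions (helper711, for S4908)

`T` a set of 3-transpositions of `G`, `X` a subgroup containing all products `t t'`, `A` a finite `X`-module.
If `|A : C_A(t t')| ≥ b` for all distinct `t, t' ∈ T`, then `|A : C_A(z)| ^ 8 ≥ b` for all `z ∈ X`, `z ≠ 1` (`main`).
-/

set_option autoImplicit false
set_option linter.unusedSectionVars false

namespace Cfsg.Agent.H711.S8

open Cfsg.Agent.H320.SD

universe u v

section words

variable {G : Type v} [Group G] {a b s : G}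

theorem path_eq (has : a * s = s * a) (hbs : b * s * b = s * b * s) :
    s * (a * b * a) * s = a * (b * s * b) * a := by
  calc s * (a * b * a) * s = (s * a) * b * (a * s) := by group
    _ = (a * s) * b * (s * a) := by rw [has]
    _ = a * (s * b * s) * a := by group
    _ = _ := by rw [hbs]

/-- in `S4` -/
theorem path_comm (has : a * s = s * a) (hab : a * b * a = b * a * b) (hbs : b * s * b = s * b * s) :
    b * (s * (a * b * a) * s) = (s * (a * b * a) * s) * b := by
  rw [path_eq has hbs]
  calc b * (a * (b * s * b) * a) = (b * a * b) * s * b * a := by group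
    _ = (a * b * a) * s * b * a := by rw [← hab]
    _ = a * b * (a * s) * b * a := by group
    _ = a * b * (s * a) * b * a := by rw [has]
    _ = a * b * s * (a * b * a) := by group
    _ = a * b * s * (b * a * b) := by rw [hab]
    _ = _ := by group

/-- conjugation by an involution -/
theorem conj_comm {g x y : G} (hg : g * g = 1) (h : x * y = y * x) : (g * x * g) * (g * y * g) = (g * y * g) * (g * x * g) := by
  calc (g * x * g) * (g * y * g) = g * x * (g * g) * y * g := by group
    _ = g * (x * y) * g := by rw [hg]; group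
    _ = g * (y * x) * g := by rw [h]
    _ = g * y * (g * g) * x * g := by rw [hg]; group
    _ = _ := by group

theorem cube_eq (x : G) : x ^ 3 = x * x * x := by rw [pow_succ, sq]

theorem four_eq (x : G) : x ^ 4 = x * x * x * x := by rw [pow_succ, pow_succ, sq]

end words

/-- a set of 3-transpositions -/
structure Tr {G : Type v} [Group G] (X : Subgroup G) (T : Set G) : Prop where
  sq : ∀ t ∈ T, t * t = 1
  conj : ∀ g : G, ∀ t ∈ T, g * t * g⁻¹ ∈ T
  three : ∀ t ∈ T, ∀ s ∈ T, t * s = s * t ∨ t * s * t = s * t * s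
  even : ∀ t ∈ T, ∀ s ∈ T, t * s ∈ X
  cent : ∀ z ∈ X, (∀ t ∈ T, z * t = t * z) → z = 1
  com : ∀ t ∈ T, ∀ t' ∈ T, t ≠ t' → t * t' = t' * t → ∃ s ∈ T, ∃ r ∈ T, s * t = t * s ∧ s * t' = t' * s ∧ s ≠ t' ∧
    r * t' = t' * r ∧ r * s = s * r ∧ r * t ≠ t * r
  non : ∀ t ∈ T, ∀ t' ∈ T, t * t' ≠ t' * t → ∃ s ∈ T, s ≠ t ∧ s * t = t * s ∧ s * t' ≠ t' * s

section main

variable {G : Type v} [Group G] {X : Subgroup G} {T : Set G} {A : Type u} [AddCommGroup A] [DistribMulAction X A]

theorem Tr.inv (h : Tr X T) {t : G} (ht : t ∈ T) : t⁻¹ = t := inv_eq_of_mul_eq_one_left (h.sq t ht)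

variable [Finite A]

theorem comm_le (z h g : X) (e : (g : G) = z * (h * (z : G)⁻¹ * (h : G)⁻¹)) : (fx A g).index ≤ (fx A z).index ^ 2 := by
  have e' : g = z * (h * z⁻¹ * h⁻¹) := Subtype.ext e
  rw [e']
  exact index_comm z h

theorem pow_le (z : X) (k : ℕ) : (fx A (z ^ k)).index ≤ (fx A z).index := by
  refine AddSubgroup.index_antitone ?_
  intro x hx
  rw [mem_fx] at hx ⊢
  induction k with
  | zero => rw [pow_zero, one_smul]
  | succ k ih => rw [pow_succ, mul_smul, hx, ih]

theorem one_le (z : X) : 1 ≤ (fx A z).index := Nat.one_le_iff_ne_zero.2 AddSubgroup.index_ne_zero_of_finite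

variable (h : Tr X T) {b : ℕ} (hb : ∀ t ∈ T, ∀ s ∈ T, t ≠ s → ∀ g : X, (g : G) = t * s → b ≤ (fx A g).index)

include h hb

/-- `z` does not commute with `t t^z` -/
theorem step_h (z : X) {t : G} (ht : t ∈ T)
    (hne : (z : G) * (t * (z * t * (z : G)⁻¹)) ≠ (t * (z * t * (z : G)⁻¹)) * z) : b ≤ (fx A z).index ^ 2 := by
  set B := (z : G) * t * (z : G)⁻¹ with hB
  set C := (z : G) * B * (z : G)⁻¹ with hC
  have hBT : B ∈ T := h.conj _ _ ht
  have hCT : C ∈ T := h.conj _ _ hBT
  have hBi := h.inv hBT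
  have hti := h.inv ht
  have hD : B * C * B ∈ T := by
    have := h.conj B C hCT
    rwa [hBi] at this
  refine le_trans (hb _ hD t ht ?_ ⟨B * C * B * t, h.even _ hD _ ht⟩ rfl) (comm_le z ⟨t * B, h.even _ ht _ hBT⟩ _ ?_)
  · intro e
    apply hne
    calc (z : G) * (t * B) = ((z : G) * t * (z : G)⁻¹) * ((z : G) * B * (z : G)⁻¹) * z := by group
      _ = B * C * z := by rw [← hB, ← hC]
      _ = (B * C * B) * B * z := by rw [mul_assoc (B * C) B B, h.sq B hBT, mul_one]
      _ = t * B * z := by rw [e]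
  · show B * C * B * t = (z : G) * ((t * B) * (z : G)⁻¹ * (t * B)⁻¹)
    calc B * C * B * t = ((z : G) * t * (z : G)⁻¹) * ((z : G) * B * (z : G)⁻¹) * B * t := by rw [← hB, ← hC]
      _ = (z : G) * ((t * B) * (z : G)⁻¹ * (B * t)) := by group
      _ = (z : G) * ((t * B) * (z : G)⁻¹ * (t * B)⁻¹) := by rw [mul_inv_rev, hBi, hti]

/-- `z` commutes with a transposition -/
theorem step_fix (z : X) (hz : z ≠ 1) {t₀ : G} (ht₀ : t₀ ∈ T) (hc : (z : G) * t₀ = t₀ * z) : b ≤ (fx A z).index ^ 2 := by
  obtain ⟨t, ht, htz⟩ : ∃ t ∈ T, (z : G) * t ≠ t * z := by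
    by_contra hno
    push Not at hno
    exact hz (Subtype.ext (h.cent z z.2 hno))
  have hB : (z : G) * t * (z : G)⁻¹ ∈ T := h.conj _ _ ht
  have hti := h.inv ht
  have ht0i := h.inv ht₀
  refine le_trans (hb _ hB t ht ?_ ⟨(z : G) * t * (z : G)⁻¹ * t, h.even _ hB _ ht⟩ rfl)
    (comm_le z ⟨t * t₀, h.even _ ht _ ht₀⟩ _ ?_)
  · intro e
    exact htz (mul_inv_eq_iff_eq_mul.1 e)
  · show (z : G) * t * (z : G)⁻¹ * t = (z : G) * ((t * t₀) * (z : G)⁻¹ * (t * t₀)⁻¹)
    have e1 : t₀ * (z : G)⁻¹ = (z : G)⁻¹ * t₀ := (show Commute t₀ (z : G) from hc.symm).inv_right.eq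
    calc (z : G) * t * (z : G)⁻¹ * t = (z : G) * (t * (z : G)⁻¹ * 1 * t) := by group
      _ = (z : G) * (t * (z : G)⁻¹ * (t₀ * t₀) * t) := by rw [h.sq t₀ ht₀]
      _ = (z : G) * (t * ((z : G)⁻¹ * t₀) * t₀ * t) := by group
      _ = (z : G) * (t * (t₀ * (z : G)⁻¹) * t₀ * t) := by rw [e1]
      _ = (z : G) * ((t * t₀) * (z : G)⁻¹ * (t₀ * t)) := by group
      _ = _ := by rw [mul_inv_rev, ht0i, hti]

omit [Finite A] [DistribMulAction X A] [AddCommGroup A] hb in
/-- `z` commutes with `t t^z` -/
theorem pow_eq_one (z : X) {t : G} (ht : t ∈ T) {p : ℕ} (hz : z ^ p = 1)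
    (hne : (z : G) * (t * (z * t * (z : G)⁻¹)) = (t * (z * t * (z : G)⁻¹)) * z) :
    (t * (z * t * (z : G)⁻¹)) ^ p = 1 := by
  have hz' : (z : G) ^ p = 1 := by rw [← Subgroup.coe_pow, hz, Subgroup.coe_one]
  have e : t * ((z : G) * t * (z : G)⁻¹) = (t * z * t⁻¹) * (z : G)⁻¹ := by rw [h.inv ht]; group
  have hc : Commute (t * z * t⁻¹) (z : G)⁻¹ := by
    rw [e] at hne
    have h1 : Commute ((t * z * t⁻¹) * (z : G)⁻¹) (z : G) := hne.symm
    have h2 := h1.mul_left (Commute.refl (z : G))
    rw [inv_mul_cancel_right] at h2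
    exact h2.inv_right
  rw [e, hc.mul_pow, conj_pow, hz', mul_one, mul_inv_cancel, inv_pow, hz', inv_one, mul_one]

/-- order at least five -/
theorem ge_five (z : X) (hz : z ≠ 1) {p : ℕ} (hp : p.Prime) (h5 : 5 ≤ p) (hzp : z ^ p = 1) : b ≤ (fx A z).index ^ 2 := by
  by_contra hlt
  apply hz
  apply Subtype.ext
  refine h.cent z z.2 fun t ht => ?_
  have hBT : (z : G) * t * (z : G)⁻¹ ∈ T := h.conj _ _ ht
  by_cases hne : (z : G) * (t * (z * t * (z : G)⁻¹)) = (t * (z * t * (z : G)⁻¹)) * z
  · have h1 := pow_eq_one h z ht hzp hne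
    set B := (z : G) * t * (z : G)⁻¹ with hB
    have h6 : (t * B) ^ 6 = 1 := by
      rcases h.three t ht B hBT with h2 | h2
      · have : (t * B) ^ 2 = 1 := by
          rw [(show Commute t B from h2).mul_pow, sq, sq, h.sq t ht, h.sq B hBT, mul_one]
        rw [show 6 = 2 * 3 by norm_num, pow_mul, this, one_pow]
      · have : (t * B) ^ 3 = 1 := by
          calc (t * B) ^ 3 = (t * B * t) * (B * t * B) := by rw [cube_eq]; group
            _ = (t * B * t) * (t * B * t) := by rw [h2]
            _ = t * B * (t * t) * B * t := by group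
            _ = t * (B * B) * t := by rw [h.sq t ht]; group
            _ = 1 := by rw [h.sq B hBT, mul_one, h.sq t ht]
        rw [show 6 = 3 * 2 by norm_num, pow_mul, this, one_pow]
    have h7 : Nat.Coprime p 6 := by
      rw [Nat.Prime.coprime_iff_not_dvd hp]
      intro hd
      have : p ∣ 2 * 3 := hd
      rcases (Nat.Prime.dvd_mul hp).1 this with h | h
      · exact absurd (Nat.le_of_dvd (by norm_num) h) (by omega)
      · exact absurd (Nat.le_of_dvd (by norm_num) h) (by omega)
    have h8 := pow_gcd_eq_one.2 ⟨h1, h6⟩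
    rw [h7, pow_one] at h8
    have h9 : B = t := by rw [← h.inv hBT]; exact (inv_eq_of_mul_eq_one_left h8)
    exact mul_inv_eq_iff_eq_mul.1 h9
  · exact absurd (step_h h hb z ht hne) hlt

theorem pow_bound {i n : ℕ} (h1 : 1 ≤ i) {k l : ℕ} (hkl : k ≤ l) (h2 : n ≤ i ^ k) : n ≤ i ^ l :=
  h2.trans (Nat.pow_le_pow_right h1 hkl)

/-- involutions -/
theorem two (z : X) (hz : z ≠ 1) (hz2 : z ^ 2 = 1) : b ≤ (fx A z).index ^ 4 := by
  have hzz : (z : G) * z = 1 := by
    rw [← Subgroup.coe_mul, ← sq, hz2, Subgroup.coe_one]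
  have hzi : (z : G)⁻¹ = z := inv_eq_of_mul_eq_one_left hzz
  by_cases h1 : ∃ t₀ ∈ T, (z : G) * t₀ = t₀ * z
  · obtain ⟨t₀, ht₀, hc⟩ := h1
    exact pow_bound h hb (one_le z) (by norm_num) (step_fix h hb z hz ht₀ hc)
  push Not at h1
  by_cases h2 : ∃ t ∈ T, (z : G) * (t * (z * t * (z : G)⁻¹)) ≠ (t * (z * t * (z : G)⁻¹)) * z
  · obtain ⟨t, ht, hc⟩ := h2
    exact pow_bound h hb (one_le z) (by norm_num) (step_h h hb z ht hc)
  push Not at h2
  -- all `t` commute with `t^z`
  have key : ∀ t ∈ T, t * (z * t * (z : G)⁻¹) = (z * t * (z : G)⁻¹) * t := by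
    intro t ht
    have e := h2 t ht
    rw [hzi] at e ⊢
    have e1 : (z : G) * (t * (z * t * z)) * z = (z * t * z) * t := by
      calc (z : G) * (t * (z * t * z)) * z = (z * t * z) * t * (z * z) := by group
        _ = _ := by rw [hzz, mul_one]
    rw [← e1, e, mul_assoc _ (z : G) z, hzz, mul_one]
  obtain ⟨t, ht⟩ : ∃ t, t ∈ T := by
    by_contra hno
    push Not at hno
    exact hz (Subtype.ext (h.cent z z.2 fun t ht => absurd ht (hno t)))
  have hBT : (z : G) * t * (z : G)⁻¹ ∈ T := h.conj _ _ ht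
  set B := (z : G) * t * (z : G)⁻¹ with hB
  have hzB : (z : G) * B * (z : G)⁻¹ = t := by
    rw [hB, hzi]
    calc (z : G) * (z * t * z) * z = (z * z) * t * (z * z) := by group
      _ = t := by rw [hzz, one_mul, mul_one]
  have hne : t ≠ B := fun e => h1 t ht (mul_inv_eq_iff_eq_mul.1 e.symm)
  obtain ⟨s, hs, r, hr, c1, c2, c3, c4, c5, c6⟩ := h.com t ht B hBT hne (key t ht)
  have hST : (z : G) * s * (z : G)⁻¹ ∈ T := h.conj _ _ hs
  have ks := key s hs
  set S := (z : G) * s * (z : G)⁻¹ with hS
  -- `S` commutes with `t` and `B`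
  have d1 : S * t = t * S := by
    calc S * t = ((z : G) * s * (z : G)⁻¹) * ((z : G) * B * (z : G)⁻¹) := by rw [hzB, ← hS]
      _ = (z : G) * (s * B) * (z : G)⁻¹ := by group
      _ = (z : G) * (B * s) * (z : G)⁻¹ := by rw [c2]
      _ = ((z : G) * B * (z : G)⁻¹) * ((z : G) * s * (z : G)⁻¹) := by group
      _ = _ := by rw [hzB, ← hS]
  have kt := key t ht
  rw [← hB] at kt
  have hEX : B * S * s * t ∈ X := by
    have := X.mul_mem (h.even _ hBT _ hST) (h.even _ hs _ ht)
    rwa [← mul_assoc] at this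
  have hle : (fx A (⟨B * S * s * t, hEX⟩ : X)).index ≤ (fx A z).index ^ 2 := by
    refine comm_le z ⟨t * s, h.even _ ht _ hs⟩ _ ?_
    show B * S * s * t = (z : G) * ((t * s) * (z : G)⁻¹ * (t * s)⁻¹)
    calc B * S * s * t = ((z : G) * t * (z : G)⁻¹) * ((z : G) * s * (z : G)⁻¹) * s * t := by rw [← hB, ← hS]
      _ = (z : G) * ((t * s) * (z : G)⁻¹ * (s * t)) := by group
      _ = _ := by rw [mul_inv_rev, h.inv hs, h.inv ht]
  have hE1 : (⟨B * S * s * t, hEX⟩ : X) ≠ 1 := by
    intro e
    have e0 : B * S * s * t = 1 := congrArg Subtype.val e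
    -- `S = t B s`
    have e1 : S = B * s * t := by
      have e2 : S * s * t = B := by
        calc S * s * t = (B * B) * (S * s * t) := by rw [h.sq B hBT, one_mul]
          _ = B * (B * S * s * t) := by group
          _ = B := by rw [e0, mul_one]
      calc S = S * (s * (t * t) * s) := by rw [h.sq t ht, mul_one, h.sq s hs, mul_one]
        _ = (S * s * t) * t * s := by group
        _ = B * t * s := by rw [e2]
        _ = B * (t * s) := by group
        _ = B * (s * t) := by rw [c1]
        _ = _ := by group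
    have hBs : Commute (B * s) (t * r) := by
      have a1 : Commute B t := kt.symm
      have a2 : Commute B r := c4.symm
      have a3 : Commute s t := c1
      have a4 : Commute s r := c5.symm
      exact (a1.mul_right a2).mul_left (a3.mul_right a4)
    have hSr : S * r = (B * s) * (t * r) := by rw [e1]; group
    have hBs2 : (B * s) * (B * s) = 1 := by
      calc (B * s) * (B * s) = B * (s * B) * s := by group
        _ = B * (B * s) * s := by rw [c2]
        _ = (B * B) * (s * s) := by group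
        _ = 1 := by rw [h.sq B hBT, h.sq s hs, one_mul]
    have htr3 : (t * r) ^ 3 = 1 := by
      have h3 : t * r * t = r * t * r := (h.three t ht r hr).resolve_left fun e => c6 e.symm
      calc (t * r) ^ 3 = (t * r * t) * (r * t * r) := by rw [cube_eq]; group
        _ = (t * r * t) * (t * r * t) := by rw [h3]
        _ = t * r * (t * t) * r * t := by group
        _ = t * (r * r) * t := by rw [h.sq t ht]; group
        _ = 1 := by rw [h.sq r hr, mul_one, h.sq t ht]
    rcases h.three S hST r hr with h3 | h3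
    · -- `(S r)^2 = 1`
      have f1 : (S * r) ^ 2 = 1 := by
        rw [(show Commute S r from h3).mul_pow, sq, sq, h.sq S hST, h.sq r hr, mul_one]
      rw [hSr, hBs.mul_pow, sq (B * s), hBs2, one_mul] at f1
      have f2 : t * r = 1 := by
        calc t * r = (t * r) ^ 3 := by rw [pow_succ, f1, one_mul]
          _ = 1 := htr3
      apply c6
      have f3 : r = t := by rw [← h.inv hr]; exact (inv_eq_of_mul_eq_one_left f2)
      rw [f3]
    · have f1 : (S * r) ^ 3 = 1 := by
        calc (S * r) ^ 3 = (S * r * S) * (r * S * r) := by rw [cube_eq]; group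
          _ = (S * r * S) * (S * r * S) := by rw [h3]
          _ = S * r * (S * S) * r * S := by group
          _ = S * (r * r) * S := by rw [h.sq S hST]; group
          _ = 1 := by rw [h.sq r hr, mul_one, h.sq S hST]
      rw [hSr, hBs.mul_pow, htr3, mul_one, pow_succ, sq (B * s), hBs2, one_mul] at f1
      apply c3
      have f3 : s = B := by rw [← h.inv hs]; exact (inv_eq_of_mul_eq_one_left f1)
      exact f3
  have hEt : ((⟨B * S * s * t, hEX⟩ : X) : G) * t = t * ((⟨B * S * s * t, hEX⟩ : X) : G) := by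
    show B * S * s * t * t = t * (B * S * s * t)
    have a1 : Commute t B := kt
    have a2 : Commute t S := d1.symm
    have a3 : Commute t s := c1.symm
    exact (((a1.mul_right a2).mul_right a3).mul_right (Commute.refl t)).eq.symm
  have h9 := step_fix h hb _ hE1 ht hEt
  calc b ≤ (fx A (⟨B * S * s * t, hEX⟩ : X)).index ^ 2 := h9
    _ ≤ ((fx A z).index ^ 2) ^ 2 := Nat.pow_le_pow_left hle 2
    _ = _ := by rw [← pow_mul]

/-- order three, `b ≤ i ^ k` for the involutions -/
theorem three_of {k : ℕ} (hk : 1 ≤ k) (two : ∀ g : X, g ≠ 1 → g ^ 2 = 1 → b ≤ (fx A g).index ^ k) (z : X) (hz : z ≠ 1)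
    (hz3 : z ^ 3 = 1) : b ≤ (fx A z).index ^ (2 * k) := by
  by_cases h1 : ∃ t₀ ∈ T, (z : G) * t₀ = t₀ * z
  · obtain ⟨t₀, ht₀, hc⟩ := h1
    exact pow_bound h hb (one_le z) (by omega) (step_fix h hb z hz ht₀ hc)
  push Not at h1
  by_cases h2 : ∃ t ∈ T, (z : G) * (t * (z * t * (z : G)⁻¹)) ≠ (t * (z * t * (z : G)⁻¹)) * z
  · obtain ⟨t, ht, hc⟩ := h2
    exact pow_bound h hb (one_le z) (by omega) (step_h h hb z ht hc)
  push Not at h2
  -- `t` does not commute with `B = t^z`, and `B^z = B t B`
  have key : ∀ t ∈ T, t * (z * t * (z : G)⁻¹) ≠ (z * t * (z : G)⁻¹) * t := by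
    intro t ht hc
    have hBT : (z : G) * t * (z : G)⁻¹ ∈ T := h.conj _ _ ht
    have e1 := pow_eq_one h z ht hz3 (h2 t ht)
    set B := (z : G) * t * (z : G)⁻¹ with hB
    have e2 : (t * B) ^ 2 = 1 := by
      rw [(show Commute t B from hc).mul_pow, sq, sq, h.sq t ht, h.sq B hBT, mul_one]
    rw [pow_succ, e2, one_mul] at e1
    have h9 : B = t := by rw [← h.inv hBT]; exact (inv_eq_of_mul_eq_one_left e1)
    exact h1 t ht (mul_inv_eq_iff_eq_mul.1 h9)
  have key2 : ∀ t ∈ T, (z : G) * (z * t * (z : G)⁻¹) * (z : G)⁻¹ = t * (z * t * (z : G)⁻¹) * t := by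
    intro t ht
    have hBT : (z : G) * t * (z : G)⁻¹ ∈ T := h.conj _ _ ht
    have e := h2 t ht
    have h3 := (h.three t ht _ hBT).resolve_left (key t ht)
    set B := (z : G) * t * (z : G)⁻¹ with hB
    rw [h3]
    -- `B C = t B`
    have e1 : B * ((z : G) * B * (z : G)⁻¹) = t * B := by
      calc B * ((z : G) * B * (z : G)⁻¹) = ((z : G) * t * (z : G)⁻¹) * ((z : G) * B * (z : G)⁻¹) := by rw [← hB]
        _ = ((z : G) * (t * B)) * (z : G)⁻¹ := by group
        _ = (t * B * z) * (z : G)⁻¹ := by rw [e]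
        _ = t * B := by group
    calc (z : G) * B * (z : G)⁻¹ = (B * B) * ((z : G) * B * (z : G)⁻¹) := by rw [h.sq B hBT, one_mul]
      _ = B * (B * ((z : G) * B * (z : G)⁻¹)) := by group
      _ = B * (t * B) := by rw [e1]
      _ = _ := by group
  obtain ⟨a, ha⟩ : ∃ t, t ∈ T := by
    by_contra hno
    push Not at hno
    exact hz (Subtype.ext (h.cent z z.2 fun t ht => absurd ht (hno t)))
  have hBT : (z : G) * a * (z : G)⁻¹ ∈ T := h.conj _ _ ha
  have ka := key a ha
  have ka2 := key2 a ha
  have ka3 := (h.three a ha _ hBT).resolve_left ka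
  set B := (z : G) * a * (z : G)⁻¹ with hB
  obtain ⟨s, hs, c1, c2, c3⟩ := h.non a ha B hBT ka
  have hST : (z : G) * s * (z : G)⁻¹ ∈ T := h.conj _ _ hs
  have ks := key s hs
  have ks2 := key2 s hs
  have ks3 := (h.three s hs _ hST).resolve_left ks
  set S := (z : G) * s * (z : G)⁻¹ with hS
  have hs3 : B * s * B = s * B * s := ((h.three B hBT s hs).resolve_left fun e => c3 e.symm)
  -- `C = a B a`, `S₂ = s S s`
  have cz : ∀ x y : G, x * y = y * x → ((z : G) * x * (z : G)⁻¹) * ((z : G) * y * (z : G)⁻¹) =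
      ((z : G) * y * (z : G)⁻¹) * ((z : G) * x * (z : G)⁻¹) := by
    intro x y hxy
    calc ((z : G) * x * (z : G)⁻¹) * ((z : G) * y * (z : G)⁻¹) = (z : G) * (x * y) * (z : G)⁻¹ := by group
      _ = (z : G) * (y * x) * (z : G)⁻¹ := by rw [hxy]
      _ = _ := by group
  have r1 : B * S = S * B := cz a s c2.symm
  have r2 : (a * B * a) * (s * S * s) = (s * S * s) * (a * B * a) := by
    rw [← ka2, ← ks2]
    exact cz B S r1
  -- `a` does not commute with `S`
  have r3 : a * S ≠ S * a := by
    intro e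
    -- then `z^2` : ...
    have e1 := cz a S e
    rw [← hB, ks2] at e1
    -- `B` commutes with `s S s`
    have e2 := cz B (s * S * s) e1
    have e3 : (z : G) * (s * S * s) * (z : G)⁻¹ = s := by
      rw [← ks2]
      have hz3' : (z : G) * z * z = 1 := by
        have := congrArg (fun w : X => (w : G)) hz3
        simpa [pow_succ] using this
      calc (z : G) * ((z : G) * S * (z : G)⁻¹) * (z : G)⁻¹
          = (z : G) * z * (z * s * (z : G)⁻¹) * (z : G)⁻¹ * (z : G)⁻¹ := by rw [← hS]; group
        _ = (z * z * z) * s * (z * z * z : G)⁻¹ := by group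
        _ = s := by rw [hz3', inv_one, one_mul, mul_one]
    rw [e3, ka2] at e2
    -- `a B a` commutes with `s`, hence `B` commutes with `s`
    have e4 := conj_comm (h.sq a ha) e2
    have e5 : a * (a * B * a) * a = B := by
      calc a * (a * B * a) * a = (a * a) * B * (a * a) := by group
        _ = B := by rw [h.sq a ha, one_mul, mul_one]
    have e6 : a * s * a = s := by
      rw [← c2, mul_assoc, h.sq a ha, mul_one]
    rw [e5, e6] at e4
    exact c3 e4.symm
  have ras : a * s = s * a := c2.symm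
  have r4 : a * S * a = S * a * S := (h.three a ha S hST).resolve_left r3
  -- the four commutations
  set P := s * (a * B * a) * s with hP
  set R := a * (s * S * s) * a with hR
  have p1 : B * P = P * B := path_comm ras ka3 hs3
  have p2 : S * R = R * S := path_comm ras.symm ks3 r4.symm
  have p3 : P * S = S * P := by
    have e := conj_comm (h.sq s hs) r2
    have e5 : s * (s * S * s) * s = S := by
      calc s * (s * S * s) * s = (s * s) * S * (s * s) := by group
        _ = S := by rw [h.sq s hs, one_mul, mul_one]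
    rwa [e5] at e
  have p4 : B * R = R * B := by
    have e := conj_comm (h.sq a ha) r2
    have e5 : a * (a * B * a) * a = B := by
      calc a * (a * B * a) * a = (a * a) * B * (a * a) := by group
        _ = B := by rw [h.sq a ha, one_mul, mul_one]
    rwa [e5] at e
  have hx2 : (a * s) * (a * s) = 1 := by
    calc (a * s) * (a * s) = a * (s * a) * s := by group
      _ = a * (a * s) * s := by rw [c2]
      _ = (a * a) * (s * s) := by group
      _ = 1 := by rw [h.sq a ha, h.sq s hs, one_mul]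
  have hy2 : (B * S) * (B * S) = 1 := by
    calc (B * S) * (B * S) = B * (S * B) * S := by group
      _ = B * (B * S) * S := by rw [r1]
      _ = (B * B) * (S * S) := by group
      _ = 1 := by rw [h.sq B hBT, h.sq S hST, one_mul]
  have hxyx : (a * s) * (B * S) * (a * s) = P * R := by
    have f1 : a * B * a * a = a * B := by rw [mul_assoc (a * B), h.sq a ha, mul_one]
    calc (a * s) * (B * S) * (a * s) = (s * a) * B * (S * (a * s)) := by rw [ras]; group
      _ = (s * a) * B * ((a * s) * (s * a)) * (S * (a * s)) := by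
          rw [show (a * s) * (s * a) = 1 by
            calc (a * s) * (s * a) = a * (s * s) * a := by group
              _ = 1 := by rw [h.sq s hs, mul_one, h.sq a ha], mul_one]
      _ = (s * (a * B * a) * s) * ((s * a) * S * (a * s)) := by group
      _ = (s * (a * B * a) * s) * ((a * s) * S * (s * a)) := by rw [ras]
      _ = _ := by rw [hP, hR]; group
  have hcomm : Commute (P * R) (B * S) := by
    have a1 : Commute P B := p1.symm
    have a2 : Commute P S := p3
    have a3 : Commute R B := p4.symm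
    have a4 : Commute R S := p2.symm
    exact (a1.mul_right a2).mul_left (a3.mul_right a4)
  -- `g = y x`
  have hgX : B * S * s * a ∈ X := by
    have := X.mul_mem (h.even _ hBT _ hST) (h.even _ hs _ ha)
    rwa [← mul_assoc] at this
  have hle : (fx A (⟨B * S * s * a, hgX⟩ : X)).index ≤ (fx A z).index ^ 2 := by
    refine comm_le z ⟨a * s, h.even _ ha _ hs⟩ _ ?_
    show B * S * s * a = (z : G) * ((a * s) * (z : G)⁻¹ * (a * s)⁻¹)
    calc B * S * s * a = ((z : G) * a * (z : G)⁻¹) * ((z : G) * s * (z : G)⁻¹) * s * a := by rw [← hB, ← hS]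
      _ = (z : G) * ((a * s) * (z : G)⁻¹ * (s * a)) := by group
      _ = _ := by rw [mul_inv_rev, h.inv hs, h.inv ha]
  have hg : B * S * s * a = (B * S) * (a * s) := by rw [mul_assoc (B * S), c2]
  have hg4 : (⟨B * S * s * a, hgX⟩ : X) ^ 4 = 1 := by
    apply Subtype.ext
    rw [Subgroup.coe_pow, Subgroup.coe_one]
    show (B * S * s * a) ^ 4 = 1
    rw [hg]
    set x := a * s with hx
    set y := B * S with hy
    have e1 : (x * y * x) * y = y * (x * y * x) := by rw [hxyx]; exact hcomm
    calc (y * x) ^ 4 = (y * (x * y * x)) * (y * x * y * x) := by rw [four_eq]; group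
      _ = ((x * y * x) * y) * (y * x * y * x) := by rw [e1]
      _ = x * y * x * (y * y) * x * y * x := by group
      _ = x * y * (x * x) * y * x := by rw [hy2]; group
      _ = x * (y * y) * x := by rw [hx2]; group
      _ = 1 := by rw [hy2, mul_one, hx2]
  have hg1 : (⟨B * S * s * a, hgX⟩ : X) ≠ 1 := by
    intro e
    have e0 : B * S * s * a = 1 := congrArg Subtype.val e
    rw [hg] at e0
    have e1 : B * S = a * s := by
      calc B * S = (B * S) * ((a * s) * (a * s)) := by rw [hx2, mul_one]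
        _ = ((B * S) * (a * s)) * (a * s) := by group
        _ = _ := by rw [e0, one_mul]
    have e2 : B * (a * s) = (a * s) * B := by
      rw [← e1]
      calc B * (B * S) = B * (S * B) := by rw [r1]
        _ = _ := by group
    -- `a B a = s B s`
    have e3 : a * B * a = s * B * s := by
      calc a * B * a = a * (B * (a * s)) * s := by
            calc a * B * a = a * B * a * (s * s) := by rw [h.sq s hs, mul_one]
              _ = _ := by group
        _ = a * ((a * s) * B) * s := by rw [e2]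
        _ = (a * a) * (s * B * s) := by group
        _ = _ := by rw [h.sq a ha, one_mul]
    rw [ka3, ← hs3] at e3
    apply c1
    have e4 := mul_right_cancel e3
    exact (mul_left_cancel e4).symm
  -- an involution
  have hfin : ∀ g : X, g ≠ 1 → g ^ 4 = 1 → b ≤ (fx A g).index ^ k := by
    intro g hg1 hg4
    by_cases hg2 : g ^ 2 = 1
    · exact two g hg1 hg2
    · exact (two (g ^ 2) hg2 (by rw [← pow_mul]; exact hg4)).trans (Nat.pow_le_pow_left (pow_le g 2) k)
  calc b ≤ (fx A (⟨B * S * s * a, hgX⟩ : X)).index ^ k := hfin _ hg1 hg4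
    _ ≤ ((fx A z).index ^ 2) ^ k := Nat.pow_le_pow_left hle k
    _ = _ := by rw [← pow_mul]

/-- order three -/
theorem three (z : X) (hz : z ≠ 1) (hz3 : z ^ 3 = 1) : b ≤ (fx A z).index ^ 8 :=
  three_of h hb (k := 4) (by norm_num) (two h hb) z hz hz3

/-- **the bound for all elements**, `b ≤ i ^ k` for the involutions -/
theorem main_of [Finite X] {k : ℕ} (hk : 1 ≤ k) (two : ∀ g : X, g ≠ 1 → g ^ 2 = 1 → b ≤ (fx A g).index ^ k) (z : X)
    (hz : z ≠ 1) : b ≤ (fx A z).index ^ (2 * k) := by
  have ho : orderOf z ≠ 1 := fun e => hz (orderOf_eq_one_iff.1 e)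
  obtain ⟨p, hp, n, hn⟩ := Nat.exists_prime_and_dvd ho
  have hn0 : n ≠ 0 := by
    rintro rfl
    rw [mul_zero] at hn
    exact (orderOf_pos z).ne' hn
  have h1 : (z ^ n) ^ p = 1 := by rw [← pow_mul, mul_comm, ← hn, pow_orderOf_eq_one]
  have h2 : z ^ n ≠ 1 := by
    intro e
    have h3 := orderOf_dvd_of_pow_eq_one e
    rw [hn] at h3
    have h4 := Nat.le_of_dvd (Nat.pos_of_ne_zero hn0) h3
    have h5 := hp.two_le
    have h6 := Nat.pos_of_ne_zero hn0
    nlinarith
  refine le_trans ?_ (Nat.pow_le_pow_left (pow_le z n) (2 * k))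
  rcases Nat.lt_or_ge p 5 with h5 | h5
  · interval_cases p
    · exact absurd hp (by norm_num)
    · exact absurd hp (by norm_num)
    · exact pow_bound h hb (one_le _) (by omega) (two _ h2 h1)
    · exact three_of h hb hk two _ h2 h1
    · exact absurd hp (by norm_num)
  · exact pow_bound h hb (one_le _) (by omega) (ge_five h hb _ h2 hp h5 h1)

/-- **the bound for all elements** -/
theorem main [Finite X] (z : X) (hz : z ≠ 1) : b ≤ (fx A z).index ^ 8 :=
  main_of h hb (k := 4) (by norm_num) (two h hb) z hz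

/-- **the bound for all elements**, if every involution commutes with a transposition -/
theorem main' [Finite X] (hI : ∀ g : X, g ^ 2 = 1 → ∃ t ∈ T, (g : G) * t = t * g) (z : X) (hz : z ≠ 1) :
    b ≤ (fx A z).index ^ 4 :=
  main_of h hb (k := 2) (by norm_num) (fun g hg hg2 => by
    obtain ⟨t, ht, hc⟩ := hI g hg2
    exact step_fix h hb g hg ht hc) z hz

end main

end Cfsg.Agent.H711.S8
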